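import Cfsg.Agent.Lib.KnownB.HNMult.Main
import Cfsg.Agent.S2046
import Cfsg.Agent.Lib.Spor.HSIso
import Cfsg.Agent.Lib.Spor.ConwaySimple
import Cfsg.Agent.Lib.Schur.Basic

/-! The multiplier of the presented Harada–Norton group, from its subgroup `⟨x, y, z⟩`. -/

set_option autoImplicit false

namespace CfsgLib.KnownB.HNMult

open Cfsg Cfsg.Spor

theorem hs_perfect : commutator ↥Spor.HS = ⊤ := by
  obtain ⟨e⟩ := CfsgLib.Spor.HSIso.pairStab_equiv_hs
  haveI := CfsgLib.Spor.ConwaySimple.isSimple_hs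
  haveI : Nontrivial ↥Spor.HS := e.symm.toEquiv.nontrivial
  haveI hsimp : IsSimpleGroup ↥Spor.HS := IsSimpleGroup.isSimpleGroup_of_surjective e.toMonoidHom e.surjective
  have hcard : Nat.card ↥Spor.HS = 44352000 := by
    rw [← Nat.card_congr e.toEquiv, CfsgLib.Spor.ConwaySimple.natCard_hsStd]
  rcases (commutator ↥Spor.HS).normal_of_characteristic.eq_bot_or_eq_top with h | h
  · exfalso
    have hc : ∀ a b : ↥Spor.HS, a * b = b * a := fun a b => by
      have := Subgroup.commutator_mem_commutator (Subgroup.mem_top a) (Subgroup.mem_top b)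
      rw [← _root_.commutator_def, h, Subgroup.mem_bot] at this
      exact commutatorElement_eq_one_iff_mul_comm.1 this
    haveI : Finite ↥Spor.HS := Nat.finite_of_card_ne_zero (by rw [hcard]; norm_num)
    letI : CommGroup ↥Spor.HS := { (inferInstance : Group ↥Spor.HS) with mul_comm := hc }
    have hp : (Nat.card ↥Spor.HS).Prime := IsSimpleGroup.prime_card
    rw [hcard] at hp
    norm_num at hp
  · exact h

/-- The multiplier is trivial. -/
theorem trivial_multiplier (hidx : kSub.index = 1539000)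
    (hN : ∃ N : Subgroup kSub, N.Normal ∧ N.index = 2 ∧ Cfsg.IsNonsplitDoubleCover N Spor.HS) :
    Cfsg.HasCyclicSchurMultiplier Cfsg.Spor.HN 1 := by
  obtain ⟨N, hNn, hN2, hdc⟩ := hN
  haveI := hNn
  haveI hfinN : Finite N := by
    obtain ⟨e⟩ := hdc.2.1
    obtain ⟨e0⟩ := CfsgLib.Spor.HSIso.pairStab_equiv_hs
    refine Nat.finite_of_card_ne_zero ?_
    rw [Subgroup.card_eq_card_quotient_mul_card_subgroup (Subgroup.center N), hdc.1,
      Nat.card_congr e.toEquiv, ← Nat.card_congr e0.toEquiv, CfsgLib.Spor.ConwaySimple.natCard_hsStd]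
    norm_num
  haveI hfinK : Finite kSub := by
    refine Nat.finite_of_card_ne_zero ?_
    rw [← N.card_mul_index, hN2]
    exact Nat.mul_ne_zero Nat.card_pos.ne' (by norm_num)
  haveI : Finite Cfsg.Spor.HN := by
    refine Nat.finite_of_card_ne_zero ?_
    rw [← kSub.card_mul_index, hidx]
    exact Nat.mul_ne_zero Nat.card_pos.ne' (by norm_num)
  have hmul : ∀ (Γ : Type) [Group Γ] [Finite Γ] (τ : Γ →* ↥Spor.HS), Cfsg.IsStemExtension τ →
      Nat.card τ.ker ≤ 2 := by
    intro Γ _ _ τ hτ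
    have hτ' : Finite (Multiplicative (ZMod 2)) := inferInstanceAs (Finite (ZMod 2))
    obtain ⟨π, hπ⟩ := Cfsg.Agent.S2046.result.2 Γ τ hτ
    exact (Nat.card_le_card_of_surjective π hπ).trans (le_of_eq (by simp [Nat.card_zmod]))
  refine CfsgLib.Schur.hasCyclicSchurMultiplier_one_of_forall fun Γ _ _ σ hσ => ?_
  exact ker_eq_bot σ hσ N hN2 (perfect_of_nonsplit hs_perfect hdc) fun M f hM hf hk =>
    injective_of_perfect hs_perfect hmul hdc hM f hf hk

end CfsgLib.KnownB.HNMult
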