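import Cfsg.Prelude.Def_KGroupFacts
import Cfsg.Prelude.Def_SporadicB
import Mathlib

/-!
A nonsplit double cover of a perfect group whose stem extensions have kernel of order at most two has
no proper perfect central extension.
-/

set_option autoImplicit false

universe u v

namespace CfsgLib.KnownB.HNMult

open Subgroup
open scoped commutatorElement IsMulCommutative

variable {M : Type u} {N : Type v} [Group M] [Group N]

/-- The preimage of the centre in a perfect central extension is central. -/
theorem mem_center_of_perfect (hM : commutator M = ⊤) (σ : M →* N) (hs : Function.Surjective σ)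
    (hc : σ.ker ≤ center M) {u : M} (hu : σ u ∈ center N) : u ∈ center M := by
  have hk : ∀ m : M, m * u * m⁻¹ * u⁻¹ ∈ σ.ker := fun m => by
    rw [MonoidHom.mem_ker]
    simp only [map_mul, map_inv]
    rw [Subgroup.mem_center_iff.1 hu (σ m)]
    group
  have hcm : ∀ m n : M, n * (m * u * m⁻¹ * u⁻¹) = m * u * m⁻¹ * u⁻¹ * n := fun m n =>
    Subgroup.mem_center_iff.1 (hc (hk m)) n
  let f : M →* center M :=
    { toFun := fun m => ⟨m * u * m⁻¹ * u⁻¹, hc (hk m)⟩
      map_one' := Subtype.ext (by simp)
      map_mul' := fun a b => Subtype.ext (by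
        show a * b * u * (a * b)⁻¹ * u⁻¹ = a * u * a⁻¹ * u⁻¹ * (b * u * b⁻¹ * u⁻¹)
        calc a * b * u * (a * b)⁻¹ * u⁻¹ = a * (b * u * b⁻¹ * u⁻¹) * (u * a⁻¹ * u⁻¹) := by group
          _ = (b * u * b⁻¹ * u⁻¹) * a * (u * a⁻¹ * u⁻¹) := by rw [hcm b a]
          _ = (b * u * b⁻¹ * u⁻¹) * (a * u * a⁻¹ * u⁻¹) := by group
          _ = _ := (hcm b _).symm) }
  have hf : commutator M ≤ f.ker := Abelianization.commutator_subset_ker f
  refine Subgroup.mem_center_iff.2 fun m => ?_
  have h1 : m * u * m⁻¹ * u⁻¹ = 1 :=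
    congrArg Subtype.val (MonoidHom.mem_ker.1 (hf (hM ▸ Subgroup.mem_top m)))
  exact commutatorElement_eq_one_iff_mul_comm.1 h1

/-- A nonsplit double cover of a perfect group is perfect. -/
theorem perfect_of_nonsplit {H : Type*} [Group H] (hH : commutator H = ⊤)
    (h : Cfsg.IsNonsplitDoubleCover N H) : commutator N = ⊤ := by
  obtain ⟨hcard, ⟨e⟩, hns⟩ := h
  set f : N →* H := e.toMonoidHom.comp (QuotientGroup.mk' (center N)) with hfdef
  have hfs : Function.Surjective f := e.surjective.comp (QuotientGroup.mk'_surjective _)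
  have hfk : ∀ n, f n = 1 ↔ n ∈ center N := fun n => by
    rw [hfdef, MonoidHom.comp_apply, MulEquiv.coe_toMonoidHom, MulEquiv.map_eq_one_iff]
    exact QuotientGroup.eq_one_iff n
  have hprod : ∀ n : N, ∃ a ∈ center N, ∃ b ∈ commutator N, a * b = n := by
    intro n
    have : f n ∈ (commutator N).map f := by
      rw [commutator_def, Subgroup.map_commutator, Subgroup.map_top_of_surjective f hfs,
        ← commutator_def, hH]
      exact Subgroup.mem_top _
    obtain ⟨b, hb, hbn⟩ := this
    refine ⟨n * b⁻¹, (hfk _).1 ?_, b, hb, inv_mul_cancel_right _ _⟩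
    rw [map_mul, map_inv, hbn, mul_inv_cancel]
  have hZ : center N ≤ commutator N := by
    haveI : Finite (center N) := Nat.finite_of_card_ne_zero (by rw [hcard]; norm_num)
    by_cases hd : center N ⊓ commutator N = ⊥
    · refine absurd ?_ (hns (commutator N))
      refine Subgroup.isComplement'_of_disjoint_and_mul_eq_univ (disjoint_iff.2 hd) ?_
      rw [Set.eq_univ_iff_forall]
      intro n
      obtain ⟨a, ha, b, hb, e⟩ := hprod n
      exact ⟨a, ha, b, hb, e⟩
    · have hle : center N ⊓ commutator N ≤ center N := inf_le_left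
      have h2 : Nat.card (center N ⊓ commutator N : Subgroup N) ∣ 2 :=
        hcard ▸ Subgroup.card_dvd_of_le hle
      rcases (Nat.dvd_prime Nat.prime_two).1 h2 with h1 | h1
      · exact absurd (Subgroup.eq_bot_of_card_eq _ h1) hd
      · have := Subgroup.eq_of_le_of_card_ge hle (by rw [h1, hcard])
        exact this ▸ inf_le_right
  refine eq_top_iff.2 fun n _ => ?_
  obtain ⟨a, ha, b, hb, rfl⟩ := hprod n
  exact mul_mem (hZ ha) hb

/-- A finite perfect central extension of a nonsplit double cover of `H` is an isomorphism when the stem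
extensions of `H` have kernels of order at most two. -/
theorem injective_of_perfect {H : Type v} [Group H] (hH : commutator H = ⊤)
    (hmul : ∀ (Γ : Type u) [Group Γ] [Finite Γ] (τ : Γ →* H), Cfsg.IsStemExtension τ → Nat.card τ.ker ≤ 2)
    (h : Cfsg.IsNonsplitDoubleCover N H) [Finite M] (hM : commutator M = ⊤) (σ : M →* N)
    (hs : Function.Surjective σ) (hc : σ.ker ≤ center M) : Function.Injective σ := by
  have := perfect_of_nonsplit hH h
  obtain ⟨hcard, ⟨e⟩, -⟩ := h
  let f : M →* H := (e.toMonoidHom.comp (QuotientGroup.mk' (center N))).comp σ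
  have hfk : ∀ m, f m = 1 ↔ σ m ∈ center N := fun m => by
    simp only [f, MonoidHom.comp_apply, MulEquiv.coe_toMonoidHom, MulEquiv.map_eq_one_iff]
    exact QuotientGroup.eq_one_iff _
  have hst : Cfsg.IsStemExtension f :=
    ⟨(e.surjective.comp (QuotientGroup.mk'_surjective _)).comp hs,
      fun m hm => mem_center_of_perfect hM σ hs hc ((hfk m).1 hm), hM ▸ le_top⟩
  have hle := hmul M f hst
  let g : f.ker →* center N :=
    { toFun := fun m => ⟨σ m, (hfk m).1 m.2⟩
      map_one' := Subtype.ext (map_one σ)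
      map_mul' := fun a b => Subtype.ext (map_mul σ _ _) }
  have hgs : Function.Surjective g := fun z => by
    obtain ⟨m, hm⟩ := hs z
    exact ⟨⟨m, (hfk m).2 (hm.symm ▸ z.2)⟩, Subtype.ext hm⟩
  have hgk := g.ker.card_mul_index
  rw [Subgroup.index_ker, MonoidHom.range_eq_top.2 hgs, Subgroup.card_top, hcard] at hgk
  have h1 : Nat.card g.ker = 1 := by
    have : 0 < Nat.card g.ker := Nat.card_pos
    omega
  rw [injective_iff_map_eq_one]
  intro m hm
  have hmk : (⟨m, (hfk m).2 (hm.symm ▸ one_mem _)⟩ : f.ker) ∈ g.ker :=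
    MonoidHom.mem_ker.2 (Subtype.ext hm)
  rw [Subgroup.eq_bot_of_card_eq _ h1, Subgroup.mem_bot] at hmk
  exact congrArg Subtype.val hmk

end CfsgLib.KnownB.HNMult
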