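import Cfsg.Agent.Lib.KnownB.HNMult.Cover
import Cfsg.Prelude.Def_Spor_HN

/-!
Stem extensions of the presented Harada–Norton group are trivial, given that `⟨x, y, z⟩` has a normal
subgroup of index two which is perfect without proper perfect central extensions.

The lifts of `x` and `y` are taken in the derived subgroup of the preimage of that subgroup, so that the
relations among `x`, `y`, `z` hold up to the square of the lift of `z`; the lift of `t` is fixed by its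
two relations with `x` and itself, and conjugation by the square of the lift of `x`, which inverts `t`,
fixes the last relation.
-/

set_option autoImplicit false
set_option maxHeartbeats 1000000

namespace CfsgLib.KnownB.HNMult

open Cfsg Cfsg.Spor Subgroup
open scoped commutatorElement

/-- the relators -/
abbrev rels : Set (FreeGroup HN.Gen) := coxRelators HN.edges ∪ {r | r ∈ HN.extra}

/-- a generator -/
def gn (g : HN.Gen) : Cfsg.Spor.HN := PresentedGroup.of g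

/-- the subgroup `⟨x, y, z⟩` -/
abbrev kSub : Subgroup Cfsg.Spor.HN :=
  (Subgroup.closure ({HN.x, HN.y, HN.z} : Set (FreeGroup HN.Gen))).map (PresentedGroup.mk rels)

theorem gn_mem : gn .x ∈ kSub ∧ gn .y ∈ kSub ∧ gn .z ∈ kSub :=
  ⟨⟨HN.x, subset_closure (Or.inl rfl), rfl⟩, ⟨HN.y, subset_closure (Or.inr (Or.inl rfl)), rfl⟩,
    ⟨HN.z, subset_closure (Or.inr (Or.inr rfl)), rfl⟩⟩

theorem rel_one {r : FreeGroup HN.Gen} (h : r ∈ HN.extra) : FreeGroup.lift gn r = 1 := by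
  have e : FreeGroup.lift gn = PresentedGroup.mk rels := FreeGroup.ext_hom _ _ fun g => by
    rw [FreeGroup.lift_apply_of]; rfl
  rw [e]
  exact PresentedGroup.one_of_mem (Or.inr h)

/-- the relations on four elements -/
structure Rels {P : Type*} [Group P] (a b c d : P) : Prop where
  r1 : b ^ 6 = 1
  r2 : a ^ 2 * b * a ^ 2 * b⁻¹ = 1
  r3 : (a⁻¹ * b⁻¹ * a * b) ^ 3 = 1
  r4 : (a⁻¹ * b ^ 2 * a * b ^ 3) ^ 3 = 1
  r5 : (a * b) ^ 8 = 1
  r6 : (a * b * a * b ^ 3) ^ 4 = 1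
  r7 : c ^ 2 = 1
  r8 : (c * a) ^ 2 = 1
  r9 : c⁻¹ * (b * a * b * a * b ^ 2 * a * b⁻¹)⁻¹ * c * (b * a * b * a * b ^ 2 * a * b⁻¹) * (a ^ 2)⁻¹ = 1
  r10 : c * (((b ^ 3 * a * b * a * b)⁻¹ * c * (b ^ 3 * a * b * a * b)) * a) ^ 3 = 1
  r11 : d ^ 5 = 1
  r12 : a⁻¹ * d * a * d ^ 2 = 1
  r13 : d⁻¹ * b⁻¹ * d * b = 1
  r14 : (c * d) ^ 3 = 1

theorem rels_gn : Rels (gn .x) (gn .y) (gn .z) (gn .t) := by
  have h := fun (i : ℕ) (hi : i < HN.extra.length) => rel_one (List.getElem_mem hi)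
  constructor
  · simpa [HN.extra, HN.x, HN.y] using h 0 (by decide)
  · simpa [HN.extra, HN.x, HN.y] using h 1 (by decide)
  · simpa [HN.extra, HN.x, HN.y] using h 2 (by decide)
  · simpa [HN.extra, HN.x, HN.y] using h 3 (by decide)
  · simpa [HN.extra, HN.x, HN.y] using h 4 (by decide)
  · simpa [HN.extra, HN.x, HN.y] using h 5 (by decide)
  · simpa [HN.extra, HN.z] using h 6 (by decide)
  · simpa [HN.extra, HN.x, HN.z] using h 7 (by decide)
  · simpa [HN.extra, HN.x, HN.y, HN.z] using h 8 (by decide)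
  · simpa [HN.extra, HN.x, HN.y, HN.z] using h 9 (by decide)
  · simpa [HN.extra, HN.t] using h 10 (by decide)
  · simpa [HN.extra, HN.x, HN.t] using h 11 (by decide)
  · simpa [HN.extra, HN.y, HN.t] using h 12 (by decide)
  · simpa [HN.extra, HN.z, HN.t] using h 13 (by decide)

theorem exists_hom {P : Type*} [Group P] {a b c d : P} (h : Rels a b c d) :
    ∃ τ : Cfsg.Spor.HN →* P,
      τ (gn .x) = a ∧ τ (gn .y) = b ∧ τ (gn .z) = c ∧ τ (gn .t) = d := by
  let f : HN.Gen → P := fun g => match g with | .x => a | .y => b | .z => c | .t => d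
  have hr : ∀ r ∈ rels, FreeGroup.lift f r = 1 := by
    rintro r (⟨x, hx, -⟩ | hr)
    · simp [HN.edges, coxNodes] at hx
    · simp only [HN.extra, Set.mem_setOf_eq, List.mem_cons, List.not_mem_nil, or_false] at hr
      rcases hr with rfl | rfl | rfl | rfl | rfl | rfl | rfl | rfl | rfl | rfl | rfl | rfl | rfl | rfl <;>
        simp only [HN.x, HN.y, HN.z, HN.t, map_mul, map_pow, map_inv, FreeGroup.lift_apply_of, f]
      exacts [h.r1, h.r2, h.r3, h.r4, h.r5, h.r6, h.r7, h.r8, h.r9, h.r10, h.r11, h.r12, h.r13, h.r14]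
  exact ⟨PresentedGroup.toGroup hr, PresentedGroup.toGroup.of hr, PresentedGroup.toGroup.of hr,
    PresentedGroup.toGroup.of hr, PresentedGroup.toGroup.of hr⟩

theorem x_y_mem (N : Subgroup kSub) [N.Normal] (hN : N.index = 2) :
    (⟨gn .x, gn_mem.1⟩ : kSub) ∈ N ∧ (⟨gn .y, gn_mem.2.1⟩ : kSub) ∈ N := by
  set a : kSub := ⟨gn .x, gn_mem.1⟩
  set b : kSub := ⟨gn .y, gn_mem.2.1⟩
  set c : kSub := ⟨gn .z, gn_mem.2.2⟩
  have h4 : (a⁻¹ * b ^ 2 * a * b ^ 3) ^ 3 = 1 := Subtype.ext rels_gn.r4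
  have h10 : c * (((b ^ 3 * a * b * a * b)⁻¹ * c * (b ^ 3 * a * b * a * b)) * a) ^ 3 = 1 :=
    Subtype.ext rels_gn.r10
  have hc : Nat.card (kSub ⧸ N) = 2 := by rw [← Subgroup.index_eq_card, hN]
  haveI : Finite (kSub ⧸ N) := Nat.finite_of_card_ne_zero (by rw [hc]; norm_num)
  haveI : Fact (Nat.Prime 2) := ⟨Nat.prime_two⟩
  have hcyc : IsCyclic (kSub ⧸ N) := isCyclic_of_prime_card hc
  letI : CommGroup (kSub ⧸ N) := hcyc.commGroup
  have hsq : ∀ q : kSub ⧸ N, q ^ 2 = 1 := fun q => by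
    rw [← hc]; exact pow_card_eq_one'
  have hsq' : ∀ q : kSub ⧸ N, q * q = 1 := fun q => by rw [← pow_two, hsq]
  have e4 := congrArg (QuotientGroup.mk' N) h4
  have e10 := congrArg (QuotientGroup.mk' N) h10
  simp only [map_mul, map_pow, map_inv, map_one] at e4 e10
  set a' := QuotientGroup.mk' N a
  set b' := QuotientGroup.mk' N b
  set c' := QuotientGroup.mk' N c
  have hb : b' = 1 := by
    have h1 : a'⁻¹ * b' ^ 2 * a' * b' ^ 3 = b' := by
      rw [mul_right_comm (a'⁻¹) (b' ^ 2) a', inv_mul_cancel, one_mul, hsq, one_mul, pow_succ, hsq, one_mul]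
    rwa [h1, pow_succ, hsq, one_mul] at e4
  have ha : a' = 1 := by
    have h1 : (b' ^ 3 * a' * b' * a' * b')⁻¹ * c' * (b' ^ 3 * a' * b' * a' * b') = c' := by
      rw [mul_comm _ c', mul_assoc, inv_mul_cancel, mul_one]
    rwa [h1, pow_succ, hsq, one_mul, ← mul_assoc, hsq', one_mul] at e10
  exact ⟨(QuotientGroup.eq_one_iff a).1 ha, (QuotientGroup.eq_one_iff b).1 hb⟩

variable {Γ : Type*} [Group Γ]

/-- Stem extensions are trivial, given the facts on `⟨x, y, z⟩`. -/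
theorem ker_eq_bot (σ : Γ →* Cfsg.Spor.HN) (hσ : Cfsg.IsStemExtension σ) (N : Subgroup kSub) [N.Normal]
    (hN : N.index = 2) (hperf : commutator N = ⊤)
    (hinj : ∀ (M : Subgroup Γ) (f : M →* N), commutator M = ⊤ → Function.Surjective f →
      f.ker ≤ center M → Function.Injective f) : σ.ker = ⊥ := by
  obtain ⟨hs, hc, hd⟩ := hσ
  obtain ⟨hxN, hyN⟩ := x_y_mem N hN
  have R := rels_gn
  have cen : ∀ {k : Γ}, σ k = 1 → ∀ g, g * k = k * g := fun {k} hk g =>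
    Subgroup.mem_center_iff.1 (hc (MonoidHom.mem_ker.2 hk)) g
  set N' : Subgroup Cfsg.Spor.HN := N.map kSub.subtype with hN'
  have hNperf : ⁅N', N'⁆ = N' := by
    rw [hN', ← Subgroup.map_commutator]
    have : Subgroup.map N.subtype ⁅(⊤ : Subgroup N), (⊤ : Subgroup N)⁆ = N := by
      rw [← _root_.commutator_def, hperf, ← MonoidHom.range_eq_map, Subgroup.range_subtype]
    rw [Subgroup.map_commutator, ← MonoidHom.range_eq_map, Subgroup.range_subtype] at this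
    rw [this]
  set NT : Subgroup Γ := N'.comap σ with hNT
  set L : Subgroup Γ := ⁅NT, NT⁆ with hL
  have hLmap : L.map σ = N' := by
    rw [hL, Subgroup.map_commutator, hNT, Subgroup.map_comap_eq_self_of_surjective hs, hNperf]
  have hLle : L ≤ NT := Subgroup.commutator_le_self NT
  have hsplit : ∀ g ∈ NT, ∃ l ∈ L, ∃ a ∈ center Γ, g = l * a := by
    intro g hg
    obtain ⟨l, hl, e⟩ : σ g ∈ L.map σ := by rw [hLmap]; exact hg
    refine ⟨l, hl, l⁻¹ * g, hc ?_, (mul_inv_cancel_left l g).symm⟩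
    rw [MonoidHom.mem_ker, map_mul, map_inv, e, inv_mul_cancel]
  have hLperf : ⁅L, L⁆ = L := by
    refine le_antisymm (Subgroup.commutator_le_self L) ?_
    conv_lhs => rw [hL]
    rw [Subgroup.commutator_le]
    intro g hg h hh
    obtain ⟨l, hl, a, ha, rfl⟩ := hsplit g hg
    obtain ⟨m, hm, b, hb, rfl⟩ := hsplit h hh
    have e : ⁅l * a, m * b⁆ = ⁅l, m⁆ := by
      have a1 : ∀ w, w * a = a * w := Subgroup.mem_center_iff.1 ha
      have b1 : ∀ w, w * b = b * w := Subgroup.mem_center_iff.1 hb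
      calc ⁅l * a, m * b⁆ = l * (a * m) * (b * a⁻¹) * l⁻¹ * b⁻¹ * m⁻¹ := by
            rw [commutatorElement_def]; group
        _ = l * m * (a * (b * a⁻¹)) * l⁻¹ * b⁻¹ * m⁻¹ := by rw [← a1 m]; group
        _ = l * m * b * l⁻¹ * b⁻¹ * m⁻¹ := by rw [← b1 a⁻¹, mul_inv_cancel_left]
        _ = l * m * (b * l⁻¹) * b⁻¹ * m⁻¹ := by group
        _ = ⁅l, m⁆ := by rw [← b1 l⁻¹, commutatorElement_def]; group
    rw [e]
    exact Subgroup.commutator_mem_commutator hl hm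
  -- `L` meets the kernel trivially
  have hker : ∀ l ∈ L, σ l = 1 → l = 1 := by
    have hmem : ∀ l : L, σ l ∈ N' := fun l => hLmap ▸ Subgroup.mem_map_of_mem σ l.2
    have hcomm : commutator L = ⊤ := by
      refine Subgroup.map_injective L.subtype_injective ?_
      rw [_root_.commutator_def, Subgroup.map_commutator, ← MonoidHom.range_eq_map, Subgroup.range_subtype,
        hLperf]
    let e : N ≃* N' := N.equivMapOfInjective kSub.subtype kSub.subtype_injective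
    let f : L →* N := e.symm.toMonoidHom.comp ((σ.comp L.subtype).codRestrict N' hmem)
    have hfk : ∀ l : L, f l = 1 ↔ σ l = 1 := fun l => by
      simp only [f, MonoidHom.comp_apply, MulEquiv.coe_toMonoidHom, MulEquiv.map_eq_one_iff]
      exact Subtype.ext_iff
    have hfs : Function.Surjective f := fun n => by
      have hn : ((e n : N') : Cfsg.Spor.HN) ∈ L.map σ := hLmap.symm ▸ (e n).2
      obtain ⟨l, hl, hln⟩ := hn
      refine ⟨⟨l, hl⟩, ?_⟩
      show e.symm _ = n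
      rw [MulEquiv.symm_apply_eq]
      exact Subtype.ext hln
    intro l hl h1
    have := hinj L f hcomm hfs (fun k hk => Subgroup.mem_center_iff.2 fun g => Subtype.ext
      (cen ((hfk k).1 (MonoidHom.mem_ker.1 hk)) g)) (a₁ := ⟨l, hl⟩) (a₂ := 1)
      (by rw [map_one]; exact (hfk _).2 h1)
    exact congrArg Subtype.val this
  -- `L` is normalised by the preimage of `⟨x, y, z⟩`
  have hnorm : ∀ g : Γ, σ g ∈ kSub → ∀ l ∈ L, g * l * g⁻¹ ∈ L := by
    intro g hg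
    have hNTc : ∀ h ∈ NT, g * h * g⁻¹ ∈ NT := by
      intro h hh
      obtain ⟨n, hn, hne⟩ := hh
      refine ⟨⟨σ g, hg⟩ * n * ⟨σ g, hg⟩⁻¹, Subgroup.Normal.conj_mem inferInstance n hn _, ?_⟩
      show σ g * (n : Cfsg.Spor.HN) * (σ g)⁻¹ = σ (g * h * g⁻¹)
      rw [map_mul, map_mul, map_inv]
      exact congrArg (fun t => σ g * t * (σ g)⁻¹) hne
    have hmap : NT.map (MulAut.conj g).toMonoidHom ≤ NT := by
      rintro _ ⟨h, hh, rfl⟩
      exact hNTc h hh
    intro l hl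
    have : (MulAut.conj g).toMonoidHom l ∈ L.map (MulAut.conj g).toMonoidHom :=
      Subgroup.mem_map_of_mem _ hl
    rw [hL, Subgroup.map_commutator] at this
    exact Subgroup.commutator_mono hmap hmap this
  -- lifts
  obtain ⟨X, hXL, hX⟩ : gn .x ∈ L.map σ := hLmap.symm ▸ ⟨⟨_, gn_mem.1⟩, hxN, rfl⟩
  obtain ⟨Y, hYL, hY⟩ : gn .y ∈ L.map σ := hLmap.symm ▸ ⟨⟨_, gn_mem.2.1⟩, hyN, rfl⟩
  obtain ⟨Z₀, hZ₀⟩ := hs (gn .z)
  obtain ⟨T₀, hT₀⟩ := hs (gn .t)
  -- the lift of `t`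
  obtain ⟨u, hu⟩ : ∃ u, u = T₀ ^ 5 := ⟨_, rfl⟩
  obtain ⟨w, hw⟩ : ∃ w, w = X⁻¹ * T₀ * X * T₀ ^ 2 := ⟨_, rfl⟩
  have huc := cen (k := u) (by rw [hu, map_pow, hT₀, R.r11])
  have hwc := cen (k := w) (by
    rw [hw]; simp only [map_mul, map_inv, map_pow, hX, hT₀]; exact R.r12)
  have hconjT : X⁻¹ * T₀ * X = w * (T₀ ^ 2)⁻¹ := by rw [hw]; group
  have hrel5 : u ^ 3 = w ^ 5 := by
    have h1 : X⁻¹ * u * X = u := by rw [mul_assoc, ← huc, inv_mul_cancel_left]
    have h2 : X⁻¹ * u * X = (X⁻¹ * T₀ * X) ^ 5 := by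
      rw [hu]
      have := (conj_pow (a := X⁻¹) (b := T₀) (i := 5)).symm
      rw [inv_inv] at this
      exact this
    rw [h1, hconjT, Commute.mul_pow (hwc _).symm] at h2
    have h3 : ((T₀ ^ 2)⁻¹) ^ 5 = (u ^ 2)⁻¹ := by
      rw [hu, inv_pow, ← pow_mul, ← pow_mul]
    rw [h3] at h2
    rw [pow_succ u 2]
    calc u ^ 2 * u = u * u ^ 2 := (pow_succ' u 2 ▸ pow_succ u 2).symm
      _ = w ^ 5 * (u ^ 2)⁻¹ * u ^ 2 := by rw [← h2]
      _ = w ^ 5 := inv_mul_cancel_right _ _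
  obtain ⟨a, ha⟩ : ∃ a, a = u⁻¹ ^ 2 * w ^ 3 := ⟨_, rfl⟩
  have hac : ∀ g, g * a = a * g := fun g => by
    rw [ha]
    exact (Commute.mul_right (Commute.pow_right (Commute.inv_right (huc g)) 2)
      (Commute.pow_right (hwc g) 3)).eq
  have huw : Commute u w := hwc u
  have ha5 : u * a ^ 5 = 1 := by
    rw [ha, Commute.mul_pow ((huw.inv_left.pow_left 2).pow_right 3), ← pow_mul, ← pow_mul,
      show 3 * 5 = 5 * 3 from rfl, pow_mul w, ← hrel5, ← pow_mul, inv_pow, ← mul_assoc]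
    rw [show (3 * 3 : ℕ) = 9 from rfl, show (2 * 5 : ℕ) = 1 + 9 from rfl, pow_add, pow_one, mul_inv_rev]
    rw [show u * ((u ^ 9)⁻¹ * u⁻¹) = u * (u ^ 9)⁻¹ * u⁻¹ from (mul_assoc _ _ _).symm]
    group
  have ha3 : w * a ^ 3 = 1 := by
    rw [ha, Commute.mul_pow ((huw.inv_left.pow_left 2).pow_right 3), ← pow_mul, ← pow_mul, inv_pow,
      show (2 * 3 : ℕ) = 3 * 2 from rfl, pow_mul, hrel5, ← pow_mul]
    group
  set T : Γ := T₀ * a with hTdef
  have hσa : σ a = 1 := by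
    have hu1 : σ u = 1 := by rw [hu, map_pow, hT₀, R.r11]
    have hw1 : σ w = 1 := by rw [hw]; simp only [map_mul, map_inv, map_pow, hX, hT₀]; exact R.r12
    rw [ha, map_mul, map_pow, map_pow, map_inv, hu1, hw1, inv_one, one_pow, one_pow, one_mul]
  have hT : σ T = gn .t := by rw [hTdef, map_mul, hσa, hT₀, mul_one]
  have t5 : T ^ 5 = 1 := by
    rw [hTdef, Commute.mul_pow (hac T₀), ← hu]; exact ha5
  have t12 : X⁻¹ * T * X * T ^ 2 = 1 := by
    rw [hTdef, Commute.mul_pow (hac T₀), pow_two a]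
    calc X⁻¹ * (T₀ * a) * X * (T₀ ^ 2 * (a * a))
        = X⁻¹ * T₀ * (a * X) * T₀ ^ 2 * (a * a) := by group
      _ = X⁻¹ * T₀ * X * (a * T₀ ^ 2) * (a * a) := by rw [← hac X]; group
      _ = X⁻¹ * T₀ * X * T₀ ^ 2 * (a * a * a) := by rw [← hac (T₀ ^ 2)]; group
      _ = 1 := by rw [← hw, ← pow_two, ← pow_succ]; exact ha3
  have tx : X⁻¹ * T * X = (T ^ 2)⁻¹ := eq_inv_of_mul_eq_one_left t12
  -- relations inside `L`
  have one_of : ∀ v ∈ L, σ v = 1 → v = 1 := hker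
  have q1 : Y ^ 6 = 1 := one_of _ (pow_mem hYL 6) (by rw [map_pow, hY, R.r1])
  have q2 : X ^ 2 * Y * X ^ 2 * Y⁻¹ = 1 := one_of _
    (mul_mem (mul_mem (mul_mem (pow_mem hXL 2) hYL) (pow_mem hXL 2)) (inv_mem hYL))
    (by simp only [map_mul, map_pow, map_inv, hX, hY]; exact R.r2)
  have q3 : (X⁻¹ * Y⁻¹ * X * Y) ^ 3 = 1 := one_of _
    (pow_mem (mul_mem (mul_mem (mul_mem (inv_mem hXL) (inv_mem hYL)) hXL) hYL) 3)
    (by simp only [map_mul, map_pow, map_inv, hX, hY]; exact R.r3)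
  have q4 : (X⁻¹ * Y ^ 2 * X * Y ^ 3) ^ 3 = 1 := one_of _
    (pow_mem (mul_mem (mul_mem (mul_mem (inv_mem hXL) (pow_mem hYL 2)) hXL) (pow_mem hYL 3)) 3)
    (by simp only [map_mul, map_pow, map_inv, hX, hY]; exact R.r4)
  have q5 : (X * Y) ^ 8 = 1 := one_of _ (pow_mem (mul_mem hXL hYL) 8)
    (by simp only [map_mul, map_pow, hX, hY]; exact R.r5)
  have q6 : (X * Y * X * Y ^ 3) ^ 4 = 1 := one_of _
    (pow_mem (mul_mem (mul_mem (mul_mem hXL hYL) hXL) (pow_mem hYL 3)) 4)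
    (by simp only [map_mul, map_pow, hX, hY]; exact R.r6)
  -- `t` commutes with the lift of `y`
  have t13 : T⁻¹ * Y⁻¹ * T * Y = 1 := by
    obtain ⟨d, hd'⟩ : ∃ d, d = T⁻¹ * Y⁻¹ * T * Y := ⟨_, rfl⟩
    have hdc := cen (k := d) (by
      rw [hd']; simp only [map_mul, map_inv, hY, hT]; exact R.r13)
    have e1 : Y⁻¹ * T * Y = T * d := by rw [hd']; group
    have e5 : d ^ 5 = 1 := by
      have h1 : (Y⁻¹ * T * Y) ^ 5 = 1 := by
        have := conj_pow (a := Y⁻¹) (b := T) (i := 5)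
        rw [inv_inv, t5, mul_one, inv_mul_cancel] at this
        exact this
      rwa [e1, Commute.mul_pow (hdc T), t5, one_mul] at h1
    have e6 : d ^ 6 = 1 := by
      have h1 : ∀ n : ℕ, (Y ^ n)⁻¹ * T * Y ^ n = T * d ^ n := by
        intro n
        induction n with
        | zero => simp
        | succ n ih =>
          calc (Y ^ (n + 1))⁻¹ * T * Y ^ (n + 1) = Y⁻¹ * ((Y ^ n)⁻¹ * T * Y ^ n) * Y := by
                rw [pow_succ]; group
            _ = Y⁻¹ * T * (d ^ n * Y) := by rw [ih]; group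
            _ = Y⁻¹ * T * Y * d ^ n := by
              rw [← (Commute.pow_right (hdc Y) n).eq]; group
            _ = T * d ^ (n + 1) := by rw [e1, pow_succ', mul_assoc]
      have := h1 6
      rw [q1, inv_one, one_mul, mul_one] at this
      exact left_eq_mul.1 this
    rw [← hd']
    calc d = d ^ 6 * (d ^ 5)⁻¹ := by rw [pow_succ' d 5, mul_inv_cancel_right]
      _ = 1 := by rw [e6, e5, inv_one, mul_one]
  -- squares of the lift of `x`
  have hX4 : X ^ 2 * X ^ 2 = 1 ∧ ∀ l ∈ L, l * X ^ 2 = X ^ 2 * l := by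
    let S : Subgroup Γ := Subgroup.zpowers (X ^ 2)
    have hSX : ∀ g, σ g ∈ kSub → ∀ s ∈ S, g * s * g⁻¹ ∈ S := by
      have hgen : ∀ g ∈ ({X, Y, Z₀} : Set Γ), ∃ j : ℤ, g * X ^ 2 * g⁻¹ = (X ^ 2) ^ j ∧ (j = 1 ∨ j = -1) := by
        intro g hg
        simp only [Set.mem_insert_iff, Set.mem_singleton_iff] at hg
        rcases hg with hg | hg | hg <;> rw [hg]
        · exact ⟨1, by group, Or.inl rfl⟩
        · refine ⟨-1, ?_, Or.inr rfl⟩
          rw [zpow_neg, zpow_one, eq_inv_iff_mul_eq_one]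
          calc Y * X ^ 2 * Y⁻¹ * X ^ 2 = (X ^ 2)⁻¹ * (X ^ 2 * Y * X ^ 2 * Y⁻¹) * X ^ 2 := by group
            _ = 1 := by rw [q2, mul_one, inv_mul_cancel]
        · refine ⟨-1, ?_, Or.inr rfl⟩
          have hzx : Z₀ * X * Z₀⁻¹ = X⁻¹ := by
            refine eq_inv_of_mul_eq_one_left (one_of _ (mul_mem (hnorm Z₀ (hZ₀ ▸ gn_mem.2.2) X hXL) hXL) ?_)
            simp only [map_mul, map_inv, hX, hZ₀]
            have h8 := R.r8
            have hinv : (gn .z)⁻¹ = gn .z := inv_eq_of_mul_eq_one_left (by rw [← pow_two, R.r7])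
            rw [hinv]
            simpa [pow_two, mul_assoc] using h8
          rw [zpow_neg, zpow_one, ← inv_pow, ← hzx, conj_pow]
      intro g hg
      obtain ⟨v, hv, e⟩ : σ g ∈ (Subgroup.closure ({X, Y, Z₀} : Set Γ)).map σ := by
        have hle : kSub ≤ (Subgroup.closure ({X, Y, Z₀} : Set Γ)).map σ := by
          rw [Subgroup.map_le_iff_le_comap, Subgroup.closure_le]
          rintro _ (rfl | rfl | rfl)
          · exact ⟨X, subset_closure (Or.inl rfl), hX⟩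
          · exact ⟨Y, subset_closure (Or.inr (Or.inl rfl)), hY⟩
          · exact ⟨Z₀, subset_closure (Or.inr (Or.inr rfl)), hZ₀⟩
        exact hle hg
      have hgc := cen (k := v⁻¹ * g) (by rw [map_mul, map_inv, e, inv_mul_cancel])
      have hv' : v ∈ Subgroup.normalizer (S : Set Γ) := by
        refine (Subgroup.closure_le _).2 ?_ hv
        intro b hb
        obtain ⟨j, hj, hj1⟩ := hgen b hb
        have hmap : S.map (MulAut.conj b).toMonoidHom = S := by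
          rw [MonoidHom.map_zpowers]
          show Subgroup.zpowers (b * X ^ 2 * b⁻¹) = _
          rw [hj]
          rcases hj1 with rfl | rfl
          · rw [zpow_one]
          · rw [zpow_neg, zpow_one, Subgroup.zpowers_inv]
        rw [SetLike.mem_coe, Subgroup.mem_normalizer_iff]
        intro s
        constructor
        · intro hs'
          rw [← hmap]
          exact ⟨s, hs', rfl⟩
        · intro hs'
          rw [← hmap] at hs'
          obtain ⟨s', hs'', e'⟩ := hs'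
          have : s' = s := (MulAut.conj b).injective (e'.trans rfl)
          exact this ▸ hs''
      intro s hs'
      have : g * s * g⁻¹ = v * s * v⁻¹ := by
        calc g * s * g⁻¹ = v * ((v⁻¹ * g) * s) * (v⁻¹ * g)⁻¹ * v⁻¹ := by group
          _ = v * (s * (v⁻¹ * g)) * (v⁻¹ * g)⁻¹ * v⁻¹ := by rw [hgc s]
          _ = _ := by group
      rw [this]
      exact (Subgroup.mem_normalizer_iff.1 hv' s).1 hs'
    have hLK : ∀ l ∈ L, σ l ∈ kSub := fun l hl => by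
      obtain ⟨n, -, hn⟩ := hLle hl
      rw [← hn]; exact n.2
    let N₁ : Subgroup Γ := Subgroup.normalizer (S : Set Γ)
    have hcommL : ∀ l ∈ L, l * X ^ 2 = X ^ 2 * l := by
      have hmem : ∀ l ∈ L, l ∈ N₁ := fun l hl => by
        rw [Subgroup.mem_normalizer_iff]
        intro s
        refine ⟨fun hs' => hSX l (hLK l hl) s hs', fun hs' => ?_⟩
        have := hSX l⁻¹ (by rw [map_inv]; exact inv_mem (hLK l hl)) _ hs'
        simpa [mul_assoc] using this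
      let C : Subgroup Γ := Subgroup.centralizer (S : Set Γ)
      have hcomm : ∀ g ∈ L, ∀ h ∈ L,
          (g * h) * X ^ 2 * (g * h)⁻¹ = (h * g) * X ^ 2 * (h * g)⁻¹ := by
        intro g hg h hh
        obtain ⟨i, hi⟩ := hSX g (hLK g hg) _ (Subgroup.mem_zpowers (X ^ 2))
        obtain ⟨j, hj⟩ := hSX h (hLK h hh) _ (Subgroup.mem_zpowers (X ^ 2))
        simp only at hi hj
        calc (g * h) * X ^ 2 * (g * h)⁻¹ = g * (h * X ^ 2 * h⁻¹) * g⁻¹ := by group
          _ = (g * X ^ 2 * g⁻¹) ^ j := by rw [← hj, conj_zpow]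
          _ = (h * X ^ 2 * h⁻¹) ^ i := by rw [← hi, ← hj, ← zpow_mul, ← zpow_mul, mul_comm]
          _ = h * (g * X ^ 2 * g⁻¹) * h⁻¹ := by rw [← hi, conj_zpow]
          _ = _ := by group
      intro l hl
      have key : ∀ g ∈ L, ∀ h ∈ L, ⁅g, h⁆ ∈ C := by
        intro g hg h hh
        rw [Subgroup.mem_centralizer_iff]
        rintro s ⟨k, rfl⟩
        have h1 : Commute ⁅g, h⁆ (X ^ 2) := by
          show ⁅g, h⁆ * X ^ 2 = X ^ 2 * ⁅g, h⁆
          rw [commutatorElement_def]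
          calc g * h * g⁻¹ * h⁻¹ * X ^ 2
              = g * h * ((h * g)⁻¹ * X ^ 2 * (h * g)) * (h * g)⁻¹ := by group
            _ = g * h * ((g * h)⁻¹ * X ^ 2 * (g * h)) * (h * g)⁻¹ := by
              have e2 : (h * g)⁻¹ * X ^ 2 * (h * g) = (g * h)⁻¹ * X ^ 2 * (g * h) := by
                have := hcomm g⁻¹ (inv_mem hg) h⁻¹ (inv_mem hh)
                simpa only [mul_inv_rev, inv_inv] using this
              rw [e2]
            _ = X ^ 2 * (g * h * g⁻¹ * h⁻¹) := by group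
        exact (h1.zpow_right k).eq.symm
      have : l ∈ C := by
        rw [← hLperf] at hl
        exact (Subgroup.commutator_le.2 key) hl
      exact (Subgroup.mem_centralizer_iff.1 this _ (Subgroup.mem_zpowers _)).symm
    refine ⟨?_, hcommL⟩
    have h1 := hcommL Y hYL
    calc X ^ 2 * X ^ 2 = X ^ 2 * (Y * X ^ 2 * Y⁻¹) := by rw [h1, mul_inv_cancel_right]
      _ = X ^ 2 * Y * X ^ 2 * Y⁻¹ := by group
      _ = 1 := q2
  -- the lift of `z`
  obtain ⟨c, hc'⟩ : ∃ c, c = (Z₀ * T) ^ 3 := ⟨_, rfl⟩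
  obtain ⟨z2, hz2⟩ : ∃ z2, z2 = Z₀ ^ 2 := ⟨_, rfl⟩
  have hcc := cen (k := c) (by rw [hc', map_pow, map_mul, hZ₀, hT, R.r14])
  have hz2c := cen (k := z2) (by rw [hz2, map_pow, hZ₀, R.r7])
  have hX2Z : X ^ 2 * Z₀ = Z₀ * X ^ 2 := by
    have hzx : Z₀ * X * Z₀⁻¹ = X⁻¹ := by
      refine eq_inv_of_mul_eq_one_left (one_of _ (mul_mem (hnorm Z₀ (hZ₀ ▸ gn_mem.2.2) X hXL) hXL) ?_)
      simp only [map_mul, map_inv, hX, hZ₀]
      have hinv : (gn .z)⁻¹ = gn .z := inv_eq_of_mul_eq_one_left (by rw [← pow_two, R.r7])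
      rw [hinv]
      simpa [pow_two, mul_assoc] using R.r8
    have : Z₀ * X ^ 2 * Z₀⁻¹ = X ^ 2 := by
      rw [← conj_pow, hzx, inv_pow, inv_eq_of_mul_eq_one_left hX4.1]
    calc X ^ 2 * Z₀ = Z₀ * X ^ 2 * Z₀⁻¹ * Z₀ := by rw [this]
      _ = Z₀ * X ^ 2 := inv_mul_cancel_right _ _
  have hTinv : (X ^ 2)⁻¹ * T * X ^ 2 = T⁻¹ := by
    calc (X ^ 2)⁻¹ * T * X ^ 2 = X⁻¹ * (X⁻¹ * T * X) * X := by simp only [pow_two, mul_inv_rev, mul_assoc]
      _ = X⁻¹ * (T ^ 2)⁻¹ * X := by rw [tx]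
      _ = ((X⁻¹ * T * X) ^ 2)⁻¹ := by
        simp only [pow_two, mul_inv_rev, inv_inv, mul_assoc, mul_inv_cancel_left]
      _ = T⁻¹ * (T ^ 5) := by rw [tx]; group
      _ = T⁻¹ := by rw [t5, mul_one]
  have hcsq : c * c = z2 ^ 3 := by
    have e1 : (Z₀ * T⁻¹) ^ 3 = c := by
      have hm : (X ^ 2)⁻¹ * (Z₀ * T) * X ^ 2 = Z₀ * T⁻¹ := by
        calc (X ^ 2)⁻¹ * (Z₀ * T) * X ^ 2
            = (X ^ 2)⁻¹ * (Z₀ * X ^ 2) * ((X ^ 2)⁻¹ * T * X ^ 2) := by group
          _ = Z₀ * T⁻¹ := by rw [← hX2Z, inv_mul_cancel_left, hTinv]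
      have := conj_pow (a := (X ^ 2)⁻¹) (b := Z₀ * T) (i := 3)
      rw [inv_inv, hm, ← hc'] at this
      rw [this, mul_assoc, ← hcc (X ^ 2), inv_mul_cancel_left]
    have e2 : (Z₀ * T⁻¹ * z2⁻¹) ^ 3 = c⁻¹ := by
      have hz : z2⁻¹ = Z₀⁻¹ * Z₀⁻¹ := by rw [hz2, pow_two, mul_inv_rev]
      calc (Z₀ * T⁻¹ * z2⁻¹) ^ 3 = (Z₀ * ((Z₀ * T)⁻¹) * Z₀⁻¹) ^ 3 := by
            rw [hz]; congr 1; group
        _ = Z₀ * ((Z₀ * T) ^ 3)⁻¹ * Z₀⁻¹ := by rw [conj_pow, inv_pow]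
        _ = c⁻¹ := by rw [← hc', (Commute.inv_right (hcc Z₀ : Commute Z₀ c)).eq, mul_inv_cancel_right]
    rw [Commute.mul_pow (Commute.inv_right (hz2c _)), e1] at e2
    have h3 : c * (c * (z2⁻¹) ^ 3) = 1 := by rw [e2, mul_inv_cancel]
    rwa [← mul_assoc, inv_pow, mul_inv_eq_one] at h3
  set Z : Γ := Z₀ * (z2 * c⁻¹) with hZdef
  have hbc : ∀ g, Commute g (z2 * c⁻¹) := fun g =>
    Commute.mul_right (hz2c g) (Commute.inv_right (hcc g))
  have hσb : σ (z2 * c⁻¹) = 1 := by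
    rw [map_mul, map_inv, hz2, hc', map_pow, map_pow, map_mul, hZ₀, hT, R.r7, R.r14, inv_one, one_mul]
  have hZ : σ Z = gn .z := by rw [hZdef, map_mul, hσb, hZ₀, mul_one]
  have hzc : Commute z2 c := hcc z2
  have z7 : Z ^ 2 = 1 := by
    rw [hZdef, Commute.mul_pow (hbc Z₀), ← hz2, Commute.mul_pow (Commute.inv_right hzc), pow_two c⁻¹,
      ← mul_inv_rev, hcsq]
    group
  have z14 : (Z * T) ^ 3 = 1 := by
    have e : Z * T = Z₀ * T * (z2 * c⁻¹) := by
      rw [hZdef, mul_assoc, ← (hbc T).eq, ← mul_assoc]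
    rw [e, Commute.mul_pow (hbc _), ← hc', Commute.mul_pow (Commute.inv_right hzc)]
    rw [← hcsq]
    group
  have hZK : σ Z ∈ kSub := hZ ▸ gn_mem.2.2
  have hZinv : Z⁻¹ = Z := inv_eq_of_mul_eq_one_left (by rw [← pow_two, z7])
  have z8 : (Z * X) ^ 2 = 1 := by
    refine one_of _ ?_ (by rw [map_pow, map_mul, hZ, hX, R.r8])
    have : (Z * X) ^ 2 = Z * X * Z⁻¹ * X := by rw [pow_two, hZinv]; group
    rw [this]
    exact mul_mem (hnorm Z hZK X hXL) hXL
  have z9 : Z⁻¹ * (Y * X * Y * X * Y ^ 2 * X * Y⁻¹)⁻¹ * Z * (Y * X * Y * X * Y ^ 2 * X * Y⁻¹) *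
      (X ^ 2)⁻¹ = 1 := by
    refine one_of _ ?_ (by simp only [map_mul, map_pow, map_inv, hZ, hX, hY]; exact R.r9)
    have hWL : Y * X * Y * X * Y ^ 2 * X * Y⁻¹ ∈ L :=
      mul_mem (mul_mem (mul_mem (mul_mem (mul_mem (mul_mem hYL hXL) hYL) hXL) (pow_mem hYL 2)) hXL)
        (inv_mem hYL)
    refine mul_mem (mul_mem ?_ hWL) (inv_mem (pow_mem hXL 2))
    have := hnorm Z⁻¹ (by rw [map_inv]; exact inv_mem hZK) _ (inv_mem hWL)
    rwa [inv_inv] at this
  have z10 : Z * (((Y ^ 3 * X * Y * X * Y)⁻¹ * Z * (Y ^ 3 * X * Y * X * Y)) * X) ^ 3 = 1 := by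
    refine one_of _ ?_ (by simp only [map_mul, map_pow, map_inv, hZ, hX, hY]; exact R.r10)
    set U := Y ^ 3 * X * Y * X * Y with hU
    have hUL : U ∈ L := mul_mem (mul_mem (mul_mem (mul_mem (pow_mem hYL 3) hXL) hYL) hXL) hYL
    have hm : U⁻¹ * Z * U * X = Z * ((Z⁻¹ * U⁻¹ * Z) * U * X) := by group
    have hl : (Z⁻¹ * U⁻¹ * Z) * U * X ∈ L := by
      refine mul_mem (mul_mem ?_ hUL) hXL
      have := hnorm Z⁻¹ (by rw [map_inv]; exact inv_mem hZK) _ (inv_mem hUL)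
      rwa [inv_inv] at this
    rw [hm]
    generalize (Z⁻¹ * U⁻¹ * Z) * U * X = l at hl
    have hzz : Z * Z = 1 := by rw [← pow_two, z7]
    have e : Z * (Z * l) ^ 3 = (Z * Z) * l * (Z * l * Z⁻¹) * l := by
      rw [hZinv]; simp only [pow_succ, pow_zero, one_mul, mul_assoc]
    rw [e, hzz, one_mul]
    exact mul_mem (mul_mem hl (hnorm Z hZK l hl)) hl
  obtain ⟨τ, ex, ey, ez, et⟩ := exists_hom (P := Γ)
    ⟨q1, q2, q3, q4, q5, q6, z7, z8, z9, z10, t5, t12, t13, z14⟩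
  have hsec : σ.comp τ = MonoidHom.id _ := by
    refine PresentedGroup.ext fun g => ?_
    show σ (τ (gn g)) = gn g
    cases g <;> simp [ex, ey, ez, et, hX, hY, hZ, hT]
  have hsec' : ∀ q, σ (τ q) = q := fun q => DFunLike.congr_fun hsec q
  have hcomm : commutator Γ ≤ τ.range := by
    rw [_root_.commutator_def, Subgroup.commutator_le]
    intro g _ h _
    have key : ⁅g, h⁆ = τ ⁅σ g, σ h⁆ := by
      have hg := cen (k := (τ (σ g))⁻¹ * g) (by rw [map_mul, map_inv, hsec', inv_mul_cancel])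
      have hh := cen (k := (τ (σ h))⁻¹ * h) (by rw [map_mul, map_inv, hsec', inv_mul_cancel])
      rw [map_commutatorElement]
      set A := τ (σ g)
      set B := τ (σ h)
      set a' := A⁻¹ * g with ha'
      set b' := B⁻¹ * h with hb'
      have eg : g = A * a' := by rw [ha']; group
      have eh : h = B * b' := by rw [hb']; group
      rw [eg, eh]
      calc ⁅A * a', B * b'⁆ = A * (a' * B) * (b' * a'⁻¹) * A⁻¹ * b'⁻¹ * B⁻¹ := by
            rw [commutatorElement_def]; group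
        _ = A * B * (a' * (b' * a'⁻¹)) * A⁻¹ * b'⁻¹ * B⁻¹ := by rw [← hg B]; group
        _ = A * B * b' * A⁻¹ * b'⁻¹ * B⁻¹ := by rw [← hh a'⁻¹, mul_inv_cancel_left]
        _ = A * B * (b' * A⁻¹) * b'⁻¹ * B⁻¹ := by group
        _ = ⁅A, B⁆ := by rw [← hh A⁻¹, commutatorElement_def]; group
    rw [key]
    exact ⟨_, rfl⟩
  rw [eq_bot_iff]
  intro k hk
  obtain ⟨q, rfl⟩ := hcomm (hd hk)
  rw [Subgroup.mem_bot]
  rw [MonoidHom.mem_ker, hsec'] at hk
  rw [hk, map_one]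

end CfsgLib.KnownB.HNMult
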